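import Mathlib

/-!
Finite data for the strongly regular graph with parameters (77, 16, 0, 4): the 60 quads on 16 points, five
parallel classes in coordinates, and the finite searches used to recognise them.
-/

set_option autoImplicit false

namespace Cfsg.Agent.Lib.SRG77

/-- The 60 blocks, as bit masks on 16 points (point `4 * y + x`). -/
def table : Fin 60 → ℕ :=
  ![15, 51, 60, 195, 204, 240, 1285, 1290, 1632, 1680,
    2400, 2448, 2565, 2570, 3840, 4369, 4386, 4680, 4740, 5140,
    5160, 6210, 6273, 8520, 8580, 8721, 8738, 9282, 9345, 10260,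
    10280, 13056, 15360, 16705, 16770, 16920, 16932, 17476, 17544, 18450,
    18465, 20560, 20640, 24582, 24585, 33048, 33060, 33345, 33410, 33810,
    33825, 34884, 34952, 36870, 36873, 41040, 41120, 49920, 52224, 61440]
/-- Rows, columns and three classes of rectangles. -/
def special : Fin 5 → Fin 4 → ℕ :=
  ![![15, 240, 3840, 61440],
    ![4369, 8738, 17476, 34952],
    ![51, 204, 13056, 52224],
    ![1285, 2570, 20560, 41120],
    ![36873, 24582, 2448, 1632]]
/-- The rectangle on a pair of rows and a pair of columns. -/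
def rect : Fin 6 → Fin 6 → ℕ :=
  ![![51, 204, 85, 170, 153, 102],
    ![13056, 52224, 21760, 43520, 39168, 26112],
    ![771, 3084, 1285, 2570, 2313, 1542],
    ![12336, 49344, 20560, 41120, 37008, 24672],
    ![12291, 49164, 20485, 40970, 36873, 24582],
    ![816, 3264, 1360, 2720, 2448, 1632]]

/-- The six pairs of indices, complementary pairs adjacent in the list. -/
def pairL : Fin 6 → Fin 4 := ![0, 2, 0, 1, 0, 1]

/-- The second members of the six pairs. -/
def pairR : Fin 6 → Fin 4 := ![1, 3, 2, 3, 3, 2]

/-- `v` lies in the `m`-th pair. -/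
abbrev inPair (v : Fin 4) (m : Fin 6) : Prop := v = pairL m ∨ v = pairR m

/-- The matching containing the `m`-th pair. -/
def half : Fin 6 → Fin 3 := ![0, 0, 1, 1, 2, 2]

/-- The six relabellings of the columns fixing the first. -/
def relabel : Fin 6 → Fin 4 → Fin 4 :=
  ![![0, 1, 2, 3], ![0, 1, 3, 2], ![0, 2, 1, 3], ![0, 2, 3, 1], ![0, 3, 1, 2], ![0, 3, 2, 1]]

theorem relabel_injective : ∀ k : Fin 6, Function.Injective (relabel k) := by decide

/-- The point in column `x` and row `y`. -/
def pt (x y : Fin 4) : Fin 16 := ⟨4 * y.val + x.val, by omega⟩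

/-- The column of a point. -/
def colOf (n : Fin 16) : Fin 4 := ⟨n.val % 4, by omega⟩

/-- The row of a point. -/
def rowOf (n : Fin 16) : Fin 4 := ⟨n.val / 4, by omega⟩

theorem pt_colOf_rowOf : ∀ n : Fin 16, pt (colOf n) (rowOf n) = n := by decide

theorem colOf_pt : ∀ x y : Fin 4, colOf (pt x y) = x ∧ rowOf (pt x y) = y := by decide

/-- The set of a mask. -/
def setOfMask (t : ℕ) : Finset (Fin 16) := Finset.univ.filter fun n => t.testBit n.val = true

theorem mem_setOfMask {t : ℕ} {n : Fin 16} : n ∈ setOfMask t ↔ t.testBit n.val = true := by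
  simp [setOfMask]

/-- How many of four points lie in a mask. -/
def cnt (a b c d : Fin 16) (t : ℕ) : ℕ :=
  (t.testBit a.val).toNat + (t.testBit b.val).toNat + (t.testBit c.val).toNat + (t.testBit d.val).toNat

/-- The value attached to four points and the `D`-th special class. -/
def kD (a b c d : Fin 16) (D : Fin 5) : ℤ :=
  if ∃ m, cnt a b c d (special D m) = 4 then 4 else if cnt a b c d (special D 0) = 1 then 1 else -2

/-- The values between the special classes. -/
def kk : Fin 5 → Fin 5 → ℤ :=
  ![![4, 1, -2, -2, -2], ![1, 4, -2, -2, -2], ![-2, -2, 4, 1, 1], ![-2, -2, 1, 4, 1], ![-2, -2, 1, 1, 4]]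

set_option maxRecDepth 100000 in
set_option maxHeartbeats 4000000 in
theorem classify : ∀ a b c d : Fin 16, a < b → b < c → c < d →
    (∀ D, (∃ m, cnt a b c d (special D m) = 4) ∨ ∀ m, cnt a b c d (special D m) ≤ 2 ∧
      (cnt a b c d (special D m) = 1 ↔ cnt a b c d (special D 0) = 1)) →
    (∀ P : Fin 2, ∀ S : Fin 3, kD a b c d ⟨P.val, by omega⟩ = -2 → kD a b c d ⟨S.val + 2, by omega⟩ = -2 →
      ∀ e, kD a b c d e + kk ⟨P.val, by omega⟩ e + kk ⟨S.val + 2, by omega⟩ e = 0) →
    (¬ ∀ D, kD a b c d D = 1) →
    ∃ j, cnt a b c d (table j) = 4 := by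
  decide +kernel

set_option maxRecDepth 100000 in
set_option maxHeartbeats 4000000 in
theorem rect_of_profile : ∀ a b c d : Fin 16, a < b → b < c → c < d →
    (∀ D : Fin 2, ∀ m, cnt a b c d (special ⟨D.val, by omega⟩ m) = 0 ∨ cnt a b c d (special ⟨D.val, by omega⟩ m) = 2) →
    ∃ m n, cnt a b c d (rect m n) = 4 := by
  decide +kernel

theorem mem_special_row : ∀ (n : Fin 16) (y : Fin 4), n ∈ setOfMask (special 0 y) ↔ rowOf n = y := by
  decide +kernel

theorem mem_special_col : ∀ (n : Fin 16) (x : Fin 4), n ∈ setOfMask (special 1 x) ↔ colOf n = x := by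
  decide +kernel

theorem card_table : ∀ j, (setOfMask (table j)).card = 4 := by decide +kernel

theorem card_special : ∀ D m, (setOfMask (special D m)).card = 4 := by decide +kernel

theorem card_rect : ∀ m n, (setOfMask (rect m n)).card = 4 := by decide +kernel

theorem rect_inj : ∀ m n m' n', rect m n = rect m' n' → m = m' ∧ n = n' := by decide +kernel

theorem rect_profile : ∀ m n (D : Fin 2) (k : Fin 4),
    (setOfMask (rect m n) ∩ setOfMask (special ⟨D.val, by omega⟩ k)).card ≠ 1 := by decide +kernel

theorem rect_hpair : ∀ (n m' n' : Fin 6) (y : Fin 4),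
    (rect m' n').testBit (pt (pairL n) y).val = true → (rect m' n').testBit (pt (pairR n) y).val = true →
    n' = n ∧ inPair y m' := by decide +kernel

theorem rect_hpair_mem : ∀ (m n : Fin 6) (y : Fin 4), inPair y m →
    (rect m n).testBit (pt (pairL n) y).val = true ∧ (rect m n).testBit (pt (pairR n) y).val = true := by
  decide +kernel

theorem rect_vpair : ∀ (m m' n' : Fin 6) (x : Fin 4),
    (rect m' n').testBit (pt x (pairL m)).val = true → (rect m' n').testBit (pt x (pairR m)).val = true →
    m' = m ∧ inPair x n' := by decide +kernel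

theorem rect_vpair_mem : ∀ (m n : Fin 6) (x : Fin 4), inPair x n →
    (rect m n).testBit (pt x (pairL m)).val = true ∧ (rect m n).testBit (pt x (pairR m)).val = true := by
  decide +kernel

theorem pair_ne : ∀ m, pairL m ≠ pairR m := by decide

theorem matching_of_exists_unique : ∀ g : Fin 6 → Bool,
    (∀ y : Fin 4, (Finset.univ.filter fun m => inPair y m ∧ g m = true).card = 1) →
    ∃ j : Fin 3, ∀ m, g m = true ↔ half m = j := by
  decide +kernel

theorem relabel_of_exists_unique : ∀ f : Fin 6 → Fin 3,
    (∀ (m : Fin 6) (x : Fin 4), (Finset.univ.filter fun n => inPair x n ∧ half m = f n).card = 1) →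
    ∃ k : Fin 6, ∀ (i : Fin 3) (l : Fin 4), ∃ m n, half m = f n ∧
      ∀ p : Fin 16, (special ⟨i.val + 2, by omega⟩ l).testBit p.val
        = (rect m n).testBit (pt (relabel k (colOf p)) (rowOf p)).val := by
  decide +kernel

theorem special_disjoint : ∀ D m m', m ≠ m' → (setOfMask (special D m) ∩ setOfMask (special D m')).card = 0 := by
  decide +kernel

theorem special_kk : ∀ D E, D ≠ E → ((setOfMask (special D 0) ∩ setOfMask (special E 0)).card = 1 ↔ kk D E = 1)
    ∧ (kk D E = 1 ∨ kk D E = -2) := by
  decide +kernel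

/-- Two blocks meet exactly once. -/
def oneB (i j : Fin 60) : Bool := decide ((table i &&& table j) ≠ 0) &&
  decide ((table i &&& table j) &&& ((table i &&& table j) - 1) = 0)

theorem setOfMask_inter (s t : ℕ) : setOfMask s ∩ setOfMask t = setOfMask (s &&& t) := by
  ext n
  simp [mem_setOfMask, Nat.testBit_and]

theorem card_inter_table : ∀ i j,
    ((setOfMask (table i &&& table j)).card = 1 ↔ oneB i j = true) ∧
    ((setOfMask (table i &&& table j)).card = 0 ↔ table i &&& table j = 0) := by
  decide +kernel

/-- The model relation between disjoint blocks of one parallel class. -/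
def parB (i j : Fin 60) : Bool :=
  decide (table i &&& table j = 0) && decide (∀ e, oneB i e = oneB j e)

theorem card_parB : ∀ i, (Finset.univ.filter fun j => parB i j = true).card = 3 := by decide +kernel

end Cfsg.Agent.Lib.SRG77
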